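import Cfsg.Agent.S3996

/-!
# Counting elements of each order from the set of multiplicities
-/

set_option autoImplicit false

namespace Cfsg.Lib.NseAlt

open Cfsg.Agent.S3996

variable {G : Type*} [Group G] [Finite G]

/-- The hypothesis, in terms of the counting function. -/
structure Vals (G : Type*) [Group G] (S : Set ℕ) : Prop where
  mem : ∀ m, cnt G m ≠ 0 → cnt G m ∈ S
  surj : ∀ v ∈ S, ∃ m, cnt G m = v

theorem Vals.of_eq {S : Set ℕ}
    (h : (fun m : ℕ => Nat.card {g : G // orderOf g = m}) '' Set.range (orderOf : G → ℕ) = S) : Vals G S := by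
  refine ⟨fun m hm => ?_, fun v hv => ?_⟩
  · obtain ⟨g, hg⟩ := exists_of_cnt hm
    rw [← h]
    exact ⟨m, ⟨g, hg⟩, rfl⟩
  · rw [← h] at hv
    obtain ⟨m, -, hm⟩ := hv
    exact ⟨m, hm⟩

theorem cnt_le_two_of_odd {m : ℕ} (hodd : Odd (cnt G m)) : m ≤ 2 := by
  by_contra hm
  have h := (Nat.totient_even (by omega : 2 < m)).two_dvd.trans (totient_dvd (G := G) m)
  exact Nat.not_even_iff_odd.2 hodd (even_iff_two_dvd.2 h)

theorem cnt_two_eq {S : Set ℕ} (hV : Vals G S) {v : ℕ} (hv : v ∈ S) (hodd : Odd v) (h1 : v ≠ 1) : cnt G 2 = v := by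
  obtain ⟨m, hm⟩ := hV.surj v hv
  have hle := cnt_le_two_of_odd (hm.symm ▸ hodd : Odd (cnt G m))
  obtain ⟨g, hg⟩ := exists_of_cnt (G := G) (m := m) (by rw [hm]; exact hodd.pos.ne')
  have h0 := orderOf_pos g
  interval_cases m
  · omega
  · exact absurd (hm.symm.trans cnt_one) h1
  · exact hm

theorem dvd_card_of_cnt {m : ℕ} (h : cnt G m ≠ 0) : m ∣ Nat.card G := by
  obtain ⟨g, rfl⟩ := exists_of_cnt h
  exact orderOf_dvd_natCard g

theorem cnt_of_dvd {m d : ℕ} (h : cnt G m ≠ 0) (hd : d ∣ m) : cnt G d ≠ 0 := by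
  obtain ⟨g, rfl⟩ := exists_of_cnt h
  obtain ⟨e, he⟩ := hd
  have he0 : e ≠ 0 := fun h0 => (orderOf_pos g).ne' (by rw [he, h0, mul_zero])
  refine (cnt_pos (g := g ^ e) ?_).ne'
  rw [orderOf_pow' g he0, he, Nat.gcd_mul_left_left, Nat.mul_div_cancel _ (Nat.pos_of_ne_zero he0)]

theorem cnt_zero_of_dvd {m d : ℕ} (h : cnt G d = 0) (hd : d ∣ m) : cnt G m = 0 :=
  by_contra fun h' => cnt_of_dvd h' hd h

theorem cnt_prime {p : ℕ} (hp : p.Prime) (h : p ∣ Nat.card G) : cnt G p ≠ 0 := by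
  haveI := Fact.mk hp
  obtain ⟨g, hg⟩ := exists_prime_orderOf_dvd_card' p h
  exact (cnt_pos hg).ne'

theorem card_eq_sum {N : ℕ} (hN : N ≠ 0) (h : Nat.card G ∣ N) :
    Nat.card G = ∑ d ∈ N.divisors, cnt G d := by
  rw [← card_pow_eq_sum N hN]
  refine Nat.card_congr (Equiv.subtypeUnivEquiv fun g => ?_).symm
  obtain ⟨k, rfl⟩ := h
  rw [pow_mul, pow_card_eq_one', one_pow]

theorem prime_cases {S : Set ℕ} (hV : Vals G S) {p : ℕ} (hp : p.Prime) (h : p ∣ Nat.card G) :
    ∃ v ∈ S, p - 1 ∣ v ∧ p ∣ 1 + v := by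
  refine ⟨cnt G p, hV.mem p (cnt_prime hp h), Nat.totient_prime hp ▸ totient_dvd p, ?_⟩
  have := frobenius_sum (G := G) hp.ne_zero dvd_rfl h
  rwa [hp.sum_divisors, cnt_one, add_comm] at this

theorem card_dvd_of_bounds {N : ℕ} (hN : N ≠ 0)
    (h : ∀ p : ℕ, p.Prime → ¬ p ^ (N.factorization p + 1) ∣ Nat.card G) : Nat.card G ∣ N := by
  rw [← Nat.factorization_le_iff_dvd Nat.card_pos.ne' hN]
  intro p
  by_cases hp : p.Prime
  · by_contra hlt
    exact h p hp ((hp.pow_dvd_iff_le_factorization Nat.card_pos.ne').2 (by omega))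
  · simp [Nat.factorization_eq_zero_of_not_prime _ hp]

/-- With a Sylow subgroup of prime order the elements of that order count the Sylow subgroups. -/
theorem cnt_eq_sylow {p : ℕ} [Fact p.Prime] (h2 : ¬ p ^ 2 ∣ Nat.card G) (hd : p ∣ Nat.card G) :
    cnt G p = Nat.card (Sylow p G) * (p - 1) := by
  classical
  haveI := Fintype.ofFinite G
  have hp := (Fact.out : p.Prime)
  have hfac : (Nat.card G).factorization p = 1 := by
    have h1 := (hp.dvd_iff_one_le_factorization Nat.card_pos.ne').1 hd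
    have h3 : ¬ 2 ≤ (Nat.card G).factorization p := fun h => h2 ((hp.pow_dvd_iff_le_factorization Nat.card_pos.ne').2 h)
    omega
  have hP : ∀ P : Sylow p G, Nat.card ↥(P : Subgroup G) = p := fun P => by
    rw [P.card_eq_multiplicity, hfac, pow_one]
  have hord : ∀ (P : Sylow p G) (x : G), x ∈ (P : Subgroup G) → x ≠ 1 → orderOf x = p := fun P x hx h1 => by
    have := Subgroup.orderOf_dvd_natCard _ hx
    rw [hP P] at this
    exact (hp.eq_one_or_self_of_dvd _ this).resolve_left fun e => h1 (orderOf_eq_one_iff.1 e)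
  have heq : ∀ (P : Sylow p G) (x : G), x ∈ (P : Subgroup G) → orderOf x = p → Subgroup.zpowers x = (P : Subgroup G) :=
    fun P x hx ho => Subgroup.eq_of_le_of_card_ge (Subgroup.zpowers_le.2 hx) (by rw [hP P, Nat.card_zpowers, ho])
  let f : (Σ P : Sylow p G, {x : ↥(P : Subgroup G) // x ≠ 1}) → {g : G // orderOf g = p} :=
    fun s => ⟨s.2.1.1, hord s.1 _ s.2.1.2 fun e => s.2.2 (Subtype.ext e)⟩
  have hf : Function.Bijective f := by
    constructor
    · rintro ⟨P, ⟨⟨x, hx⟩, hx1⟩⟩ ⟨Q, ⟨⟨y, hy⟩, hy1⟩⟩ h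
      obtain rfl : x = y := congrArg Subtype.val h
      have ho := hord P x hx fun e => hx1 (Subtype.ext e)
      obtain rfl : P = Q := Sylow.ext ((heq P x hx ho).symm.trans (heq Q x hy ho))
      rfl
    · rintro ⟨g, hg⟩
      obtain ⟨P, hP'⟩ := (IsPGroup.of_card (p := p) (n := 1) (G := Subgroup.zpowers g)
        (by rw [Nat.card_zpowers, hg, pow_one])).exists_le_sylow
      exact ⟨⟨P, ⟨⟨g, hP' (Subgroup.mem_zpowers g)⟩, fun e => by
        exact hp.ne_one (by rw [← hg, show g = 1 from congrArg Subtype.val e, orderOf_one])⟩⟩, rfl⟩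
  haveI := Fintype.ofFinite (Sylow p G)
  rw [cnt, ← Nat.card_congr (Equiv.ofBijective f hf), Nat.card_sigma, Finset.sum_congr rfl (g := fun _ => p - 1)
    fun P _ => ?_, Finset.sum_const, Finset.card_univ, ← Nat.card_eq_fintype_card, smul_eq_mul]
  rw [Nat.card_eq_fintype_card, Fintype.card_subtype_compl, Fintype.card_subtype_eq, ← Nat.card_eq_fintype_card, hP P]

theorem sylow_dvd {p : ℕ} [Fact p.Prime] : Nat.card (Sylow p G) ∣ Nat.card G := by
  obtain ⟨P⟩ := (inferInstance : Nonempty (Sylow p G))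
  exact P.card_dvd_index.trans (Subgroup.index_dvd_card _)

/-- With a cyclic Sylow subgroup every element of order `p` has `p ^ k` roots of maximal order. -/
theorem cnt_roots {p k : ℕ} [Fact p.Prime] (hne : cnt G (p ^ (k + 1)) ≠ 0) (hmax : ¬ p ^ (k + 2) ∣ Nat.card G) :
    cnt G p * p ^ k ≤ cnt G (p ^ (k + 1)) := by
  classical
  have hp := (Fact.out : p.Prime)
  obtain ⟨y, hy⟩ := exists_of_cnt hne
  obtain ⟨Q, hQ⟩ := (IsPGroup.of_card (p := p) (n := k + 1) (G := Subgroup.zpowers y)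
    (by rw [Nat.card_zpowers, hy])).exists_le_sylow
  have hroot : ∀ x : {g : G // orderOf g = p}, ∃ z : G, orderOf z = p ^ (k + 1) ∧ z ^ p ^ k = x.1 := by
    rintro ⟨x, hx⟩
    obtain ⟨P, hP⟩ := (IsPGroup.of_card (p := p) (n := 1) (G := Subgroup.zpowers x)
      (by rw [Nat.card_zpowers, hx, pow_one])).exists_le_sylow
    obtain ⟨g, hg⟩ := MulAction.exists_smul_eq G Q P
    have hcard : Nat.card ↥(Q : Subgroup G) ∣ p ^ (k + 1) := by
      obtain ⟨n, hn⟩ := Q.2.exists_card_eq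
      have h1 : n < k + 2 := by
        by_contra h
        exact hmax ((pow_dvd_pow p (by omega)).trans (hn ▸ Subgroup.card_subgroup_dvd_card _))
      rw [hn]
      exact pow_dvd_pow p (by omega)
    have hQeq : Subgroup.zpowers y = (Q : Subgroup G) := Subgroup.eq_of_le_of_card_ge hQ
      (by rw [Nat.card_zpowers, hy]; exact Nat.le_of_dvd (pow_pos hp.pos _) hcard)
    have hxQ : g⁻¹ * x * g ∈ Subgroup.zpowers y := by
      rw [hQeq]
      have hxP : x ∈ (P : Subgroup G) := hP (Subgroup.mem_zpowers x)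
      rw [← hg] at hxP
      have := Subgroup.mem_pointwise_smul_iff_inv_smul_mem.1 hxP
      rwa [← map_inv, MulAut.smul_def, MulAut.conj_apply, inv_inv] at this
    obtain ⟨n, hn⟩ := ((isOfFinOrder_of_finite y).mem_powers_iff_mem_zpowers.2 hxQ)
    simp only at hn
    have hox : orderOf (y ^ n) = p := by
      rw [hn, ← hx]
      have : g⁻¹ * x * g = MulAut.conj g⁻¹ x := by simp
      rw [this, ← MulEquiv.coe_toMonoidHom, orderOf_injective _ (MulAut.conj g⁻¹).injective]
    have hn0 : n ≠ 0 := fun e => by rw [e, pow_zero, orderOf_one] at hox; exact hp.ne_one hox.symm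
    have hgcd : (p ^ (k + 1)).gcd n = p ^ k := by
      rw [orderOf_pow' y hn0, hy] at hox
      have hdvd := Nat.gcd_dvd_left (p ^ (k + 1)) n
      have := Nat.div_mul_cancel hdvd
      rw [hox, pow_succ, mul_comm p] at this
      exact (Nat.eq_of_mul_eq_mul_right hp.pos this)
    obtain ⟨j, hj⟩ : p ^ k ∣ n := hgcd ▸ Nat.gcd_dvd_right _ _
    have hpj : ¬ p ∣ j := fun hd => by
      have h1 : p ^ (k + 1) ∣ (p ^ (k + 1)).gcd n := Nat.dvd_gcd dvd_rfl (by rw [hj, pow_succ]; exact Nat.mul_dvd_mul_left _ hd)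
      rw [hgcd] at h1
      have h2 := Nat.le_of_dvd (pow_pos hp.pos _) h1
      exact absurd h2 (not_le.2 (Nat.pow_lt_pow_right hp.one_lt (by omega)))
    have hzj : orderOf (y ^ j) = p ^ (k + 1) := by
      rw [Nat.Coprime.orderOf_pow (by rw [hy]; exact Nat.Coprime.pow_left _ (hp.coprime_iff_not_dvd.2 hpj)), hy]
    refine ⟨MulAut.conj g (y ^ j), ?_, ?_⟩
    · rw [← MulEquiv.coe_toMonoidHom, orderOf_injective _ (MulAut.conj g).injective, hzj]
    · rw [← map_pow, ← pow_mul, mul_comm, ← hj, hn, MulAut.conj_apply]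
      group
  choose z hz hzx using hroot
  let f : {g : G // orderOf g = p} × Fin (p ^ k) → {g : G // orderOf g = p ^ (k + 1)} := fun s =>
    ⟨z s.1 ^ (1 + p * s.2.val), by
      rw [Nat.Coprime.orderOf_pow ?_, hz]
      rw [hz]
      refine Nat.Coprime.pow_left _ (hp.coprime_iff_not_dvd.2 fun hd => ?_)
      exact hp.not_dvd_one ((Nat.dvd_add_left (dvd_mul_right p _)).1 hd)⟩
  have hf : Function.Injective f := by
    rintro ⟨x, i⟩ ⟨x', i'⟩ h
    have h' : z x ^ (1 + p * i.val) = z x' ^ (1 + p * i'.val) := congrArg Subtype.val h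
    have hpk : ∀ (w : {g : G // orderOf g = p}) (m : ℕ), (z w ^ (1 + p * m)) ^ p ^ k = w.1 := fun w m => by
      rw [← pow_mul, mul_comm, pow_mul, hzx, pow_add, pow_one, pow_mul]
      have : w.1 ^ p = 1 := by
        have h := pow_orderOf_eq_one w.1
        rwa [w.2] at h
      rw [this, one_pow, mul_one]
    obtain rfl : x = x' := Subtype.ext (by rw [← hpk x i.val, h', hpk])
    rw [pow_eq_pow_iff_modEq, hz] at h'
    have h'' : p * i.val ≡ p * i'.val [MOD p * p ^ k] := by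
      rw [← pow_succ']; exact Nat.ModEq.add_left_cancel' 1 h'
    have := Nat.ModEq.mul_left_cancel' hp.ne_zero h''
    exact Prod.ext rfl (Fin.ext (Nat.ModEq.eq_of_lt_of_lt this i.isLt i'.isLt))
  have := Nat.card_le_card_of_injective f hf
  rwa [Nat.card_prod, Nat.card_fin] at this

end Cfsg.Lib.NseAlt
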