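import Cfsg.Agent.Recognition.NseAlt.Tools
import Cfsg.Agent.Classical.Misc.SixtyGroup
import Cfsg.Agent.S0494

/-!
# The group with multiplicities 1, 15, 20, 24
-/

set_option autoImplicit false

namespace Cfsg.Lib.NseAlt

open Cfsg.Agent.S3996

variable {G : Type*} [Group G] [Finite G]

/-- A subgroup of order 25 without elements of order 25 moves 15 involutions into at least 60 elements of order 10. -/
theorem sixty_le_cnt_ten (c2 : cnt G 2 = 15) (c25 : cnt G 25 = 0) (h : 5 ^ 2 ∣ Nat.card G) : 60 ≤ cnt G 10 := by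
  classical
  haveI : Fact (Nat.Prime 5) := ⟨by norm_num⟩
  obtain ⟨P, hP⟩ := Sylow.exists_subgroup_card_pow_prime 5 h
  have hcomm : ∀ t : {g : G // orderOf g = 2}, ∃ u : G, orderOf u = 5 ∧ Commute u t.1 := by
    intro t
    letI : MulAction P {g : G // orderOf g = 2} :=
      { smul := fun g s => ⟨MulAut.conj (g : G) s.1, by
          rw [← MulEquiv.coe_toMonoidHom, orderOf_injective _ (MulAut.conj (g : G)).injective, s.2]⟩
        one_smul := fun s => Subtype.ext (by show MulAut.conj ((1 : P) : G) s.1 = s.1; simp)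
        mul_smul := fun g k s => Subtype.ext (by
          show MulAut.conj ((g * k : P) : G) s.1 = MulAut.conj (g : G) (MulAut.conj (k : G) s.1)
          rw [Subgroup.coe_mul, map_mul, MulAut.mul_apply]) }
    have hst : MulAction.stabilizer P t ≠ ⊥ := fun e => by
      have h1 := MulAction.index_stabilizer P t
      rw [e, Subgroup.index_bot, hP] at h1
      have h2 := Set.ncard_le_ncard (Set.subset_univ (MulAction.orbit P t)) (Set.toFinite _)
      rw [Set.ncard_univ, ← h1] at h2
      rw [cnt] at c2
      omega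
    obtain ⟨⟨⟨u, hu⟩, hmem⟩, hne⟩ := Subgroup.ne_bot_iff_exists_ne_one.1 hst
    refine ⟨u, ?_, ?_⟩
    · have hd : orderOf u ∣ 5 ^ 2 := hP ▸ Subgroup.orderOf_dvd_natCard P hu
      obtain ⟨j, hj, hju⟩ := (Nat.dvd_prime_pow (by norm_num)).1 hd
      interval_cases j
      · exact absurd (Subtype.ext (Subtype.ext (orderOf_eq_one_iff.1 (by simpa using hju)))) hne
      · simpa using hju
      · exact absurd c25 (cnt_pos (g := u) (by simpa using hju)).ne'
    · have h3 : MulAut.conj u t.1 = t.1 := congrArg Subtype.val hmem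
      exact mul_inv_eq_iff_eq_mul.1 h3
  choose u hu huc using hcomm
  have hord : ∀ (t : {g : G // orderOf g = 2}) (i : Fin 4), orderOf (u t ^ (i.val + 1) * t.1) = 10 := fun t i => by
    have h5 : orderOf (u t ^ (i.val + 1)) = 5 := by
      rw [Nat.Coprime.orderOf_pow, hu]
      rw [hu]
      exact (Nat.Prime.coprime_iff_not_dvd (by norm_num)).2 (Nat.not_dvd_of_pos_of_lt (by omega) (by omega))
    rw [((huc t).pow_left _).orderOf_mul_eq_mul_orderOf_of_coprime (by rw [h5, t.2]; decide), h5, t.2]
  let f : {g : G // orderOf g = 2} × Fin 4 → {g : G // orderOf g = 10} :=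
    fun s => ⟨u s.1 ^ (s.2.val + 1) * s.1.1, hord s.1 s.2⟩
  have h5t : ∀ (t : {g : G // orderOf g = 2}) (m : ℕ), (u t ^ m * t.1) ^ 5 = t.1 := fun t m => by
    have a1 : u t ^ 5 = 1 := by rw [← hu t]; exact pow_orderOf_eq_one _
    have a2 : t.1 ^ 2 = 1 := by
      have := pow_orderOf_eq_one t.1
      rwa [t.2] at this
    rw [((huc t).pow_left m).mul_pow, ← pow_mul, mul_comm m, pow_mul, a1, one_pow, one_mul,
      pow_succ, show (4 : ℕ) = 2 * 2 from rfl, pow_mul, a2, one_pow, one_mul]
  have hf : Function.Injective f := by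
    rintro ⟨t, i⟩ ⟨t', i'⟩ e
    have e' : u t ^ (i.val + 1) * t.1 = u t' ^ (i'.val + 1) * t'.1 := congrArg Subtype.val e
    obtain rfl : t = t' := Subtype.ext (by rw [← h5t t (i.val + 1), e', h5t])
    have e'' := mul_right_cancel e'
    rw [pow_eq_pow_iff_modEq, hu] at e''
    have := i.isLt
    have := i'.isLt
    rw [Nat.ModEq] at e''
    exact Prod.ext rfl (Fin.ext (by show i.val = i'.val; omega))
  have := Nat.card_le_card_of_injective f hf
  rwa [Nat.card_prod, Nat.card_fin, show Nat.card {g : G // orderOf g = 2} = 15 from c2] at this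

theorem iso_five (hV : Vals G {1, 15, 20, 24}) : Nonempty (G ≃* ↥(alternatingGroup (Fin 5))) := by
  have hv : ∀ m, cnt G m = 0 ∨ cnt G m = 1 ∨ cnt G m = 15 ∨ cnt G m = 20 ∨ cnt G m = 24 := fun m => by
    by_cases h : cnt G m = 0
    · exact Or.inl h
    · exact Or.inr (by simpa using hV.mem m h)
  have tot : ∀ m k, Nat.totient m = k → k ∣ cnt G m := fun m k hk => hk ▸ totient_dvd m
  haveI : Fact (Nat.Prime 3) := ⟨Nat.prime_three⟩
  haveI : Fact (Nat.Prime 5) := ⟨by norm_num⟩
  have c1 : cnt G 1 = 1 := cnt_one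
  have c2 : cnt G 2 = 15 := cnt_two_eq hV (by simp) (by decide) (by decide)
  have hpr : ∀ p : ℕ, p.Prime → p ∣ Nat.card G → p = 2 ∨ p = 3 ∨ p = 5 := fun p hp hd => by
    obtain ⟨v, hv', h1, h2⟩ := prime_cases hV hp hd
    simp only [Set.mem_insert_iff, Set.mem_singleton_iff] at hv'
    have hle := Nat.le_of_dvd (by omega) h2
    rcases hv' with rfl | rfl | rfl | rfl <;> interval_cases p <;> norm_num at *
  have c3 : 3 ∣ Nat.card G → cnt G 3 = 20 := fun h => by
    have := frob_list h [1, 3] (by decide)
    simp only [List.map_cons, List.map_nil, List.sum_cons, List.sum_nil] at this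
    have := cnt_prime Nat.prime_three h
    have := hv 3; have := tot 3 2 (by decide); omega
  have c5 : 5 ∣ Nat.card G → cnt G 5 = 24 := fun h => by
    have := frob_list h [1, 5] (by decide)
    simp only [List.map_cons, List.map_nil, List.sum_cons, List.sum_nil] at this
    have := cnt_prime (p := 5) (by norm_num) h
    have := hv 5; have := tot 5 4 (by decide); omega
  have h9 : ¬ 3 ^ 2 ∣ Nat.card G := fun h => by
    have hc3 := c3 ((dvd_pow_self 3 two_ne_zero).trans h)
    have c27 : cnt G 27 = 0 := by have := hv 27; have := tot 27 18 (by decide); omega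
    have c9 : cnt G 9 = 0 ∨ cnt G 9 = 24 := by have := hv 9; have := tot 9 6 (by decide); omega
    have h27 : ¬ 3 ^ 3 ∣ Nat.card G := fun h => by
      have := frob_list h [1, 3, 9, 27] (by decide)
      simp only [List.map_cons, List.map_nil, List.sum_cons, List.sum_nil] at this
      omega
    have := frob_list h [1, 3, 9] (by decide)
    simp only [List.map_cons, List.map_nil, List.sum_cons, List.sum_nil] at this
    have hr : cnt G 9 ≠ 0 → cnt G 3 * 3 ≤ cnt G 9 := fun hne => by
      simpa using cnt_roots (G := G) (p := 3) (k := 1) hne h27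
    omega
  have h25 : ¬ 5 ^ 2 ∣ Nat.card G := fun h => by
    have hc5 := c5 ((dvd_pow_self 5 two_ne_zero).trans h)
    have c125 : cnt G 125 = 0 := by
      have := hv 125; have := tot 125 100 (by decide +kernel)
      omega
    have c25 : cnt G 25 = 0 ∨ cnt G 25 = 20 := by have := hv 25; have := tot 25 20 (by decide); omega
    have h125 : ¬ 5 ^ 3 ∣ Nat.card G := fun h => by
      have := frob_list h [1, 5, 25, 125] (by decide)
      simp only [List.map_cons, List.map_nil, List.sum_cons, List.sum_nil] at this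
      omega
    have hr : cnt G 25 ≠ 0 → cnt G 5 * 5 ≤ cnt G 25 := fun hne => by
      simpa using cnt_roots (G := G) (p := 5) (k := 1) hne h125
    have := sixty_le_cnt_ten c2 (by omega) h
    have := hv 10
    omega
  have c4' : cnt G 4 = 0 ∨ cnt G 4 = 20 ∨ cnt G 4 = 24 := by have := hv 4; have := tot 4 2 (by decide); omega
  have c8' : cnt G 8 = 0 ∨ cnt G 8 = 20 ∨ cnt G 8 = 24 := by have := hv 8; have := tot 8 4 (by decide); omega
  have c16' : cnt G 16 = 0 ∨ cnt G 16 = 24 := by have := hv 16; have := tot 16 8 (by decide); omega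
  have c32 : cnt G 32 = 0 := by have := hv 32; have := tot 32 16 (by decide); omega
  have h5 : 5 ∣ Nat.card G := by
    by_contra h5
    have h3 : ¬ 3 ∣ Nat.card G := fun h3 => by
      have h1 := cnt_eq_sylow (G := G) h9 h3
      rw [c3 h3] at h1
      have h2 := sylow_dvd (G := G) (p := 3)
      rw [show Nat.card (Sylow 3 G) = 10 by omega] at h2
      exact h5 ((by norm_num : 5 ∣ 10).trans h2)
    have c64 : cnt G 64 = 0 := cnt_zero_of_dvd c32 (by norm_num)
    have c128 : cnt G 128 = 0 := cnt_zero_of_dvd c32 (by norm_num)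
    have h128 : ¬ 2 ^ 7 ∣ Nat.card G := fun h => by
      have := frob_list h [1, 2, 4, 8, 16, 32, 64, 128] (by decide)
      simp only [List.map_cons, List.map_nil, List.sum_cons, List.sum_nil] at this
      omega
    have hN : Nat.card G ∣ 64 := card_dvd_list [(2, 6)] (by decide) (fun p hp hd => by
      rcases hpr p hp hd with rfl | rfl | rfl
      · simp
      · exact absurd hd h3
      · exact absurd hd h5) (List.forall_mem_singleton.2 h128)
    have hsum := card_eq_list (by norm_num) hN [1, 2, 4, 8, 16, 32, 64] (by decide)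
    simp only [List.map_cons, List.map_nil, List.sum_cons, List.sum_nil] at hsum
    have hsur : ∀ v, v = 20 ∨ v = 24 → cnt G 4 = v ∨ cnt G 8 = v ∨ cnt G 16 = v := fun v hv' => by
      obtain ⟨m, hm⟩ := hV.surj v (by rcases hv' with rfl | rfl <;> simp)
      have hmd : m ∣ 64 := (dvd_card_of_cnt (G := G) (by omega)).trans hN
      obtain ⟨j, hj, rfl⟩ := (Nat.dvd_prime_pow Nat.prime_two).1 (show m ∣ 2 ^ 6 by simpa using hmd)
      interval_cases j <;> norm_num at hm <;> omega
    have := hsur 20 (Or.inl rfl)
    have := hsur 24 (Or.inr rfl)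
    obtain ⟨j, hj, hje⟩ := (Nat.dvd_prime_pow Nat.prime_two).1 (show Nat.card G ∣ 2 ^ 6 by simpa using hN)
    interval_cases j <;> norm_num at hje <;> omega
  have hc5 := c5 h5
  have h3 : 3 ∣ Nat.card G := by
    have h1 := cnt_eq_sylow (G := G) h25 h5
    rw [hc5] at h1
    have h2 := sylow_dvd (G := G) (p := 5)
    rw [show Nat.card (Sylow 5 G) = 6 by omega] at h2
    exact (by norm_num : 3 ∣ 6).trans h2
  have hc3 := c3 h3
  have c15 : cnt G 15 = 0 := by
    by_contra h
    have := frob_list (dvd_card_of_cnt h) [1, 3, 5, 15] (by decide)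
    simp only [List.map_cons, List.map_nil, List.sum_cons, List.sum_nil] at this
    have := hv 15; have := tot 15 8 (by decide); omega
  have h2 : 2 ∣ Nat.card G := dvd_card_of_cnt (by rw [c2]; decide)
  have c10 : cnt G 10 = 0 := by
    by_contra h
    have := frob_list (dvd_card_of_cnt h) [1, 2, 5, 10] (by decide)
    simp only [List.map_cons, List.map_nil, List.sum_cons, List.sum_nil] at this
    have := dvd_cnt_of_no_product (G := G) (m := 10) Nat.prime_three h3 (by decide) (cnt_zero_of_dvd c15 (by norm_num))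
    have := hv 10; have := tot 10 4 (by decide); omega
  have c6 : cnt G 6 = 0 := by
    by_contra h
    have := frob_list (dvd_card_of_cnt h) [1, 2, 3, 6] (by decide)
    simp only [List.map_cons, List.map_nil, List.sum_cons, List.sum_nil] at this
    have := dvd_cnt_of_no_product (G := G) (m := 6) (q := 5) (by norm_num) h5 (by decide) (cnt_zero_of_dvd c15 (by norm_num))
    have := hv 6; omega
  have c4 : cnt G 4 = 0 := by
    have := dvd_cnt_of_no_product (G := G) (m := 4) (q := 5) (by norm_num) h5 (by decide) (cnt_zero_of_dvd c10 (by norm_num))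
    have := dvd_cnt_of_no_product (G := G) (m := 4) Nat.prime_three h3 (by decide) (cnt_zero_of_dvd c6 (by norm_num))
    omega
  have z4 : ∀ m, 4 ∣ m → cnt G m = 0 := fun m hm => cnt_zero_of_dvd c4 hm
  have h32 : ¬ 2 ^ 5 ∣ Nat.card G := fun h => by
    have := frob_list h [1, 2, 4, 8, 16, 32] (by decide)
    simp only [List.map_cons, List.map_nil, List.sum_cons, List.sum_nil, z4 8 (by norm_num), z4 16 (by norm_num),
      z4 32 (by norm_num)] at this
    omega
  have hN : Nat.card G ∣ 240 := card_dvd_list [(2, 4), (3, 1), (5, 1)] (by decide) (fun p hp hd => by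
    rcases hpr p hp hd with rfl | rfl | rfl <;> simp) (List.forall_mem_cons.2 ⟨h32, List.forall_mem_cons.2 ⟨h9, List.forall_mem_singleton.2 h25⟩⟩)
  have hsum := card_eq_list (by norm_num) hN [1, 2, 3, 4, 5, 6, 8, 10, 12, 15, 16, 20, 24, 30, 40, 48, 60, 80, 120, 240]
    (by decide)
  simp only [List.map_cons, List.map_nil, List.sum_cons, List.sum_nil, z4 8 (by norm_num), z4 12 (by norm_num),
    z4 16 (by norm_num), z4 20 (by norm_num), z4 24 (by norm_num), z4 40 (by norm_num), z4 48 (by norm_num),
    z4 60 (by norm_num), z4 80 (by norm_num), z4 120 (by norm_num), z4 240 (by norm_num),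
    cnt_zero_of_dvd c15 (show 15 ∣ 30 by norm_num), c1, c2, hc3, hc5, c4, c6, c10, c15] at hsum
  have hcard : Nat.card G = 60 := by omega
  haveI : IsSimpleGroup G := by
    refine Cfsg.Lib.Classical.SixtyGroup.simple_of_sixty hcard fun N hN hmem => ?_
    haveI := hN
    have hmul := N.card_mul_index
    rw [hcard] at hmul
    simp only [Finset.mem_insert, Finset.mem_singleton] at hmem
    rcases hmem with e | e | e | e
    rotate_left
    · have := cnt_le_normal N (m := 3) (by norm_num) (by rw [show N.index = 20 by rw [e] at hmul; omega]; decide)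
      omega
    rotate_left
    · have := cnt_le_normal N (m := 5) (by norm_num) (by rw [show N.index = 12 by rw [e] at hmul; omega]; decide)
      omega
    all_goals
      haveI : Fact (Nat.Prime 2) := ⟨Nat.prime_two⟩
      obtain ⟨t, ht⟩ := exists_prime_orderOf_dvd_card' (G := N) 2 (by omega)
      obtain ⟨x, hx⟩ := exists_prime_orderOf_dvd_card' (G := G) 5 h5
      have ht' : orderOf (t : G) = 2 := by rw [Subgroup.orderOf_coe, ht]
      by_cases hc : Commute x (t : G)
      · have := cnt_mul_ne_zero hc (by rw [hx, ht']; decide)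
        rw [hx, ht'] at this
        exact this c10
      · have := orbit_lt N (by norm_num) hx t.2 (fun h1 => by rw [h1, orderOf_one] at ht'; omega) hc
        omega
  exact Cfsg.Agent.S0494.result hcard

end Cfsg.Lib.NseAlt
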