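import Cfsg.Agent.Recognition.NseAlt.Tools
import Cfsg.Agent.S0228

/-!
# The group with multiplicities 1, 3, 8
-/

set_option autoImplicit false

namespace Cfsg.Lib.NseAlt

open Cfsg.Agent.S3996

variable {G : Type*} [Group G] [Finite G]

theorem iso_four (hV : Vals G {1, 3, 8}) : Nonempty (G ≃* ↥(alternatingGroup (Fin 4))) := by
  have hv : ∀ m, cnt G m = 0 ∨ cnt G m = 1 ∨ cnt G m = 3 ∨ cnt G m = 8 := fun m => by
    by_cases h : cnt G m = 0
    · exact Or.inl h
    · exact Or.inr (by simpa using hV.mem m h)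
  have tot : ∀ m k, Nat.totient m = k → k ∣ cnt G m := fun m k hk => hk ▸ totient_dvd m
  have c1 : cnt G 1 = 1 := cnt_one
  have c2 : cnt G 2 = 3 := cnt_two_eq hV (by simp) (by decide) (by decide)
  have hpr : ∀ p : ℕ, p.Prime → p ∣ Nat.card G → p = 2 ∨ p = 3 := fun p hp hd => by
    obtain ⟨v, hv', h1, h2⟩ := prime_cases hV hp hd
    simp only [Set.mem_insert_iff, Set.mem_singleton_iff] at hv'
    have hle := Nat.le_of_dvd (by omega) h2
    rcases hv' with rfl | rfl | rfl <;> interval_cases p <;> norm_num at *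
  have c4 : cnt G 4 = 0 ∨ cnt G 4 = 8 := by have := hv 4; have := tot 4 2 (by decide); omega
  have c8 : cnt G 8 = 0 ∨ cnt G 8 = 8 := by have := hv 8; have := tot 8 4 (by decide); omega
  have c3 : cnt G 3 = 0 ∨ cnt G 3 = 8 := by have := hv 3; have := tot 3 2 (by decide); omega
  have c9 : cnt G 9 = 0 := by have := hv 9; have := tot 9 6 (by decide); omega
  have c27 : cnt G 27 = 0 := cnt_zero_of_dvd c9 (by norm_num)
  have h8 : ¬ 2 ^ 3 ∣ Nat.card G := fun h => by
    have := frob_list h [1, 2, 4, 8] (by decide)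
    simp only [List.map_cons, List.map_nil, List.sum_cons, List.sum_nil] at this
    have h48 : cnt G 8 ≠ 0 → cnt G 4 ≠ 0 := fun h => cnt_of_dvd h (by norm_num)
    omega
  have h27 : ¬ 3 ^ 3 ∣ Nat.card G := fun h => by
    have := frob_list h [1, 3, 9, 27] (by decide)
    simp only [List.map_cons, List.map_nil, List.sum_cons, List.sum_nil] at this
    omega
  have hN : Nat.card G ∣ 36 := card_dvd_list [(2, 2), (3, 2)] (by decide) (fun p hp hd => by
    rcases hpr p hp hd with rfl | rfl <;> simp) (List.forall_mem_cons.2 ⟨h8, List.forall_mem_singleton.2 h27⟩)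
  have c6 : cnt G 6 = 0 := by
    by_contra h
    have := frob_list (dvd_card_of_cnt h) [1, 2, 3, 6] (by decide)
    simp only [List.map_cons, List.map_nil, List.sum_cons, List.sum_nil] at this
    have : cnt G 3 ≠ 0 := cnt_of_dvd h (by norm_num)
    have := hv 6
    have := tot 6 2 (by decide)
    omega
  have c12 : cnt G 12 = 0 := cnt_zero_of_dvd c6 (by norm_num)
  have c18 : cnt G 18 = 0 := cnt_zero_of_dvd c6 (by norm_num)
  have c36 : cnt G 36 = 0 := cnt_zero_of_dvd c6 (by norm_num)
  have hsum := card_eq_list (by norm_num) hN [1, 2, 3, 4, 6, 9, 12, 18, 36] (by decide)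
  simp only [List.map_cons, List.map_nil, List.sum_cons, List.sum_nil] at hsum
  have hcard : Nat.card G = 12 := by
    obtain ⟨m, hm⟩ := hV.surj 8 (by simp)
    have := cnt_le_card (G := G) m
    have hle := Nat.le_of_dvd (by norm_num) hN
    interval_cases hg : Nat.card G <;> omega
  refine Cfsg.Agent.S0228.result hcard fun z hz hzc => ?_
  haveI : Fact (Nat.Prime 3) := ⟨Nat.prime_three⟩
  obtain ⟨x, hx⟩ := exists_prime_orderOf_dvd_card' 3 (show 3 ∣ Nat.card G by omega)
  have := cnt_mul_ne_zero (show Commute x z from Subgroup.mem_center_iff.1 hzc x) (by rw [hx, hz]; decide)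
  rw [hx, hz] at this
  exact this c6

end Cfsg.Lib.NseAlt
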