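import Cfsg.Agent.Recognition.NseAlt.Tools
import Cfsg.Agent.S0497

/-!
# The group with multiplicities 1, 45, 80, 90, 144
-/

set_option autoImplicit false

set_option maxHeartbeats 4000000

namespace Cfsg.Lib.NseAlt

open Cfsg.Agent.S3996

variable {G : Type*} [Group G] [Finite G]

/-- A normal subgroup on which an element of order `q` acts without fixed points has order `1` modulo `q`. -/
theorem card_normal_modEq (N : Subgroup G) [N.Normal] {q : ℕ} [Fact q.Prime] {x : G} (hx : orderOf x = q)
    (hfix : ∀ t ∈ N, Commute x t → t = 1) : Nat.card N ≡ 1 [MOD q] := by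
  letI : MulAction (Subgroup.zpowers x) N :=
    MulAction.compHom N ((MulAut.conjNormal (H := N)).comp (Subgroup.zpowers x).subtype)
  have hp : IsPGroup q (Subgroup.zpowers x) := IsPGroup.of_card (n := 1) (by rw [Nat.card_zpowers, hx, pow_one])
  have h := hp.card_modEq_card_fixedPoints N
  have he : Nat.card (MulAction.fixedPoints (Subgroup.zpowers x) N) = 1 := by
    rw [Nat.card_eq_one_iff_unique]
    refine ⟨⟨fun a b => ?_⟩, ⟨⟨1, fun g => map_one (MulAut.conjNormal (g : G))⟩⟩⟩
    have key : ∀ c : MulAction.fixedPoints (Subgroup.zpowers x) N, c.1 = 1 := fun c => by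
      have h1 : MulAut.conjNormal x c.1 = c.1 := c.2 ⟨x, Subgroup.mem_zpowers x⟩
      have h2 := congrArg (fun w : N => (w : G)) h1
      simp only [MulAut.conjNormal_apply] at h2
      exact Subtype.ext (hfix _ c.1.2 (mul_inv_eq_iff_eq_mul.1 h2))
    exact Subtype.ext ((key a).trans (key b).symm)
  rw [he] at h
  exact h

/-- Such a group of order 360 is simple. -/
theorem simple_six (hcard : Nat.card G = 360) (h5 : 5 ∣ Nat.card G) (hc3 : cnt G 3 = 80) (hc5 : cnt G 5 = 144)
    (z10 : ∀ m, 10 ∣ m → cnt G m = 0) (z15 : ∀ m, 15 ∣ m → cnt G m = 0) : IsSimpleGroup G := by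
  haveI : Fact (Nat.Prime 2) := ⟨Nat.prime_two⟩
  haveI : Fact (Nat.Prime 3) := ⟨Nat.prime_three⟩
  haveI : Fact (Nat.Prime 5) := ⟨by norm_num⟩
  haveI : Nontrivial G := Finite.one_lt_card_iff_nontrivial.1 (by omega)
  refine ⟨fun N hN => ?_⟩
  haveI := hN
  have hmul := N.card_mul_index
  rw [hcard] at hmul
  have hd : Nat.card N ∣ 360 := Dvd.intro _ hmul
  by_cases h5N : 5 ∣ Nat.card N
  · right
    have hi5 : Nat.Coprime 5 N.index := (Nat.Prime.coprime_iff_not_dvd (by norm_num)).2 fun hh => by
      have := Nat.mul_dvd_mul h5N hh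
      rw [hmul] at this
      norm_num at this
    have h145 := cnt_le_normal N (m := 5) (by norm_num) hi5
    rw [hc5] at h145
    rw [← Subgroup.card_eq_iff_eq_top, hcard]
    have key : ∀ n ∈ Nat.divisors 360, 144 < n → n = 180 ∨ n = 360 := by decide +kernel
    rcases key _ (Nat.mem_divisors.2 ⟨hd, by norm_num⟩) h145 with e | e
    · exfalso
      rw [e] at hmul
      have := cnt_le_normal N (m := 3) (by norm_num) (by rw [show N.index = 2 by omega]; decide)
      rw [hc3, e] at this
      have hs : Disjoint {g : G | orderOf g = 5} {g : G | orderOf g = 3} := by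
        rw [Set.disjoint_left]
        intro g h1 h2
        simp only [Set.mem_ofPred_eq] at h1 h2
        omega
      have hmem : ∀ (m : ℕ), Nat.Coprime m N.index → ∀ g : G, orderOf g = m → g ∈ N := fun m hcop g hg => by
        rw [← QuotientGroup.eq_one_iff, ← orderOf_eq_one_iff]
        refine Nat.eq_one_of_dvd_coprimes hcop ?_ ?_
        · rw [← hg]; exact orderOf_map_dvd (QuotientGroup.mk' N) g
        · exact orderOf_dvd_natCard _
      have hu : {g : G | orderOf g = 5} ∪ {g : G | orderOf g = 3} ⊆ (N : Set G) := by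
        rintro g (hg | hg)
        · exact hmem 5 hi5 g hg
        · exact hmem 3 (by rw [show N.index = 2 by omega]; decide) g hg
      have hle := Set.ncard_le_ncard hu (Set.toFinite _)
      rw [Set.ncard_union_eq hs, ← Nat.card_coe_set_eq, ← Nat.card_coe_set_eq, ← Nat.card_coe_set_eq] at hle
      change cnt G 5 + cnt G 3 ≤ Nat.card N at hle
      omega
    · exact e
  · left
    have h72 : Nat.card N ∣ 72 :=
      ((Nat.Prime.coprime_iff_not_dvd (by norm_num : Nat.Prime 5)).2 h5N).symm.dvd_of_dvd_mul_left (by simpa using hd)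
    obtain ⟨x, hx⟩ := exists_prime_orderOf_dvd_card' (G := G) 5 h5
    have hfix : ∀ t ∈ N, Commute x t → t = 1 := fun t ht hc => by
      by_contra hne
      have hod : orderOf t ∣ Nat.card N := Subgroup.orderOf_dvd_natCard N ht
      have hcop : (orderOf x).Coprime (orderOf t) := by
        rw [hx, Nat.Prime.coprime_iff_not_dvd (by norm_num)]
        exact fun hh => h5N (hh.trans hod)
      have hne0 := cnt_mul_ne_zero hc hcop
      rw [hx] at hne0
      obtain ⟨r, hr, hrd⟩ := Nat.exists_prime_and_dvd (fun e => hne (orderOf_eq_one_iff.1 e))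
      have hle := Nat.le_of_dvd (by norm_num) ((hrd.trans hod).trans h72)
      have h72' : r ∣ 72 := (hrd.trans hod).trans h72
      have hr6 : r = 2 ∨ r = 3 := by
        have key : ∀ r ∈ Nat.divisors 72, r.Prime → r = 2 ∨ r = 3 := by decide +kernel
        exact key r (Nat.mem_divisors.2 ⟨h72', by norm_num⟩) hr
      rcases hr6 with rfl | rfl
      · exact hne0 (z10 _ (by have := Nat.mul_dvd_mul_left 5 hrd; simpa using this))
      · exact hne0 (z15 _ (by have := Nat.mul_dvd_mul_left 5 hrd; simpa using this))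
    have hmod := card_normal_modEq N hx hfix
    rw [Nat.ModEq] at hmod
    have key : ∀ n ∈ Nat.divisors 72, n % 5 = 1 → n = 1 ∨ n = 6 ∨ n = 36 := by decide +kernel
    rcases key _ (Nat.mem_divisors.2 ⟨h72, by norm_num⟩) hmod with e | e | e
    · exact Subgroup.card_eq_one.1 e
    · exfalso
      obtain ⟨t, ht⟩ := exists_prime_orderOf_dvd_card' (G := N) 3 (by omega)
      obtain ⟨s, hs⟩ := exists_prime_orderOf_dvd_card' (G := N) 2 (by omega)
      have ht' : orderOf (t : G) = 3 := by rw [Subgroup.orderOf_coe, ht]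
      have hb := orbit_le N (by norm_num) hx t.2 fun hc => by
        rw [hfix _ t.2 hc, orderOf_one] at ht'
        omega
      let f : {y : N // orderOf (y : G) = orderOf (t : G)} ⊕ Fin 2 → N :=
        Sum.elim Subtype.val ![1, s]
      have hf : Function.Injective f := by
        refine Function.Injective.sumElim Subtype.val_injective ?_ ?_
        · intro i j hij
          fin_cases i <;> fin_cases j <;> simp at hij ⊢
          · rw [← hij, orderOf_one] at hs; omega
          · rw [hij, orderOf_one] at hs; omega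
        · rintro ⟨y, hy⟩ i hyi
          rw [ht', Subgroup.orderOf_coe] at hy
          change y = _ at hyi
          fin_cases i <;> simp at hyi <;> subst hyi
          · rw [orderOf_one] at hy; omega
          · omega
      have := Nat.card_le_card_of_injective f hf
      rw [Nat.card_sum, Nat.card_fin] at this
      omega
    · exfalso
      have := cnt_le_normal N (m := 3) (by norm_num) (by
        rw [show N.index = 10 by rw [e] at hmul; omega]; decide)
      omega

theorem small_arith (g a b c d : ℕ) (hg : g = 46 + a + b + c + d) (ha : a = 0 ∨ a = 80) (hb : b = 0 ∨ b = 90)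
    (hc : c = 0 ∨ c = 90 ∨ c = 144) (hd : d = 0 ∨ d = 80 ∨ d = 144) (hca : c ≠ 0 → a ≠ 0) (hdc : d ≠ 0 → c ≠ 0)
    (hdb : d ≠ 0 → b ≠ 0) (h90 : a = 90 ∨ b = 90 ∨ c = 90 ∨ d = 90) (h144 : a = 144 ∨ b = 144 ∨ c = 144 ∨ d = 144) :
    360 ≤ g ∧ g ≤ 504 := by
  omega

theorem six_vals (hV : Vals G {1, 45, 80, 90, 144}) (m : ℕ) :
    cnt G m = 0 ∨ cnt G m = 1 ∨ cnt G m = 45 ∨ cnt G m = 80 ∨ cnt G m = 90 ∨ cnt G m = 144 := by
  by_cases h : cnt G m = 0
  · exact Or.inl h
  · exact Or.inr (by simpa using hV.mem m h)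

theorem totient_eq_dvd {m k : ℕ} (hk : Nat.totient m = k) : k ∣ cnt G m := hk ▸ totient_dvd m

theorem six_two (hV : Vals G {1, 45, 80, 90, 144}) : cnt G 2 = 45 :=
  cnt_two_eq hV (by simp) (by decide) (by decide)

theorem six_three (hV : Vals G {1, 45, 80, 90, 144}) (h : 3 ∣ Nat.card G) : cnt G 3 = 80 := by
  have c1 : cnt G 1 = 1 := cnt_one
  have := frob_list h [1, 3] (by decide)
  simp only [List.map_cons, List.map_nil, List.sum_cons, List.sum_nil] at this
  have := cnt_prime Nat.prime_three h
  have := six_vals hV 3; have := totient_eq_dvd (G := G) (show Nat.totient 3 = 2 by decide); omega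

theorem six_five (hV : Vals G {1, 45, 80, 90, 144}) (h : 5 ∣ Nat.card G) : cnt G 5 = 144 := by
  have c1 : cnt G 1 = 1 := cnt_one
  have := frob_list h [1, 5] (by decide)
  simp only [List.map_cons, List.map_nil, List.sum_cons, List.sum_nil] at this
  have := cnt_prime (p := 5) (by norm_num) h
  have := six_vals hV 5; have := totient_eq_dvd (G := G) (show Nat.totient 5 = 4 by decide); omega

theorem six_not_twentyfive (hV : Vals G {1, 45, 80, 90, 144}) : ¬ 5 ^ 2 ∣ Nat.card G := fun h => by
  haveI : Fact (Nat.Prime 5) := ⟨by norm_num⟩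
  have c1 : cnt G 1 = 1 := cnt_one
  have hc5 := six_five hV ((dvd_pow_self 5 two_ne_zero).trans h)
  have c125 : cnt G 125 = 0 := by
    have := six_vals hV 125; have := totient_eq_dvd (G := G) (show Nat.totient 125 = 100 by decide +kernel); omega
  have c25 : cnt G 25 = 0 ∨ cnt G 25 = 80 := by
    have := six_vals hV 25; have := totient_eq_dvd (G := G) (show Nat.totient 25 = 20 by decide); omega
  by_cases hz : cnt G 25 = 0
  · have := frob_list h [1, 5, 25] (by decide)
    simp only [List.map_cons, List.map_nil, List.sum_cons, List.sum_nil, hz, c1, hc5] at this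
    omega
  have h125 : ¬ 5 ^ 3 ∣ Nat.card G := fun h => by
    have := frob_list h [1, 5, 25, 125] (by decide)
    simp only [List.map_cons, List.map_nil, List.sum_cons, List.sum_nil, c1, hc5, c125] at this
    omega
  have hr : cnt G 5 * 5 ≤ cnt G 25 := by simpa using cnt_roots (G := G) (p := 5) (k := 1) hz h125
  omega

theorem six_not_seven (hV : Vals G {1, 45, 80, 90, 144}) : ¬ 7 ∣ Nat.card G := fun h => by
  haveI : Fact (Nat.Prime 7) := ⟨by norm_num⟩
  have c1 : cnt G 1 = 1 := cnt_one
  have hc : cnt G 7 = 90 := by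
    have := frob_list h [1, 7] (by decide)
    simp only [List.map_cons, List.map_nil, List.sum_cons, List.sum_nil] at this
    have := cnt_prime (p := 7) (by norm_num) h
    have := six_vals hV 7; have := totient_eq_dvd (G := G) (show Nat.totient 7 = 6 by decide); omega
  have h49 : ¬ 7 ^ 2 ∣ Nat.card G := fun h => by
    have := frob_list h [1, 7, 49] (by decide)
    simp only [List.map_cons, List.map_nil, List.sum_cons, List.sum_nil] at this
    have := six_vals hV 49; have := totient_eq_dvd (G := G) (show Nat.totient 49 = 42 by decide +kernel); omega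
  have h1 := cnt_eq_sylow (G := G) h49 h
  rw [hc] at h1
  have h2 := sylow_dvd (G := G) (p := 7)
  rw [show Nat.card (Sylow 7 G) = 15 by omega] at h2
  have h5 : 5 ∣ Nat.card G := (by norm_num : 5 ∣ 15).trans h2
  have := frob_list ((show Nat.Coprime 5 7 by decide).mul_dvd_of_dvd_of_dvd h5 h) [1, 5, 7, 35] (by decide)
  simp only [List.map_cons, List.map_nil, List.sum_cons, List.sum_nil, c1, hc, six_five hV h5] at this
  have := six_vals hV 35; have := totient_eq_dvd (G := G) (show Nat.totient 35 = 24 by decide +kernel)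
  clear h1 h49 h5 h2 h
  omega

theorem six_nine (hV : Vals G {1, 45, 80, 90, 144}) : cnt G 9 = 0 := by
  haveI : Fact (Nat.Prime 3) := ⟨Nat.prime_three⟩
  by_contra hne
  have h3 : 3 ∣ Nat.card G := (by norm_num : 3 ∣ 9).trans (dvd_card_of_cnt hne)
  have hc3 := six_three hV h3
  have c9' : cnt G 9 = 90 ∨ cnt G 9 = 144 := by
    have := six_vals hV 9; have := totient_eq_dvd (G := G) (show Nat.totient 9 = 6 by decide); omega
  by_cases h27 : 3 ^ 3 ∣ Nat.card G
  · have := frob_list h27 [1, 3, 9, 27] (by decide)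
    simp only [List.map_cons, List.map_nil, List.sum_cons, List.sum_nil, cnt_one, hc3] at this
    have c27' : cnt G 27 = 0 ∨ cnt G 27 = 90 ∨ cnt G 27 = 144 := by
      have := six_vals hV 27; have := totient_eq_dvd (G := G) (show Nat.totient 27 = 18 by decide); omega
    clear h27 h3
    omega
  · have hr : cnt G 3 * 3 ≤ cnt G 9 := by simpa using cnt_roots (G := G) (p := 3) (k := 1) hne h27
    omega

theorem six_z_nine (hV : Vals G {1, 45, 80, 90, 144}) {m : ℕ} (hm : 9 ∣ m) : cnt G m = 0 :=
  cnt_zero_of_dvd (six_nine hV) hm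

theorem six_four (hV : Vals G {1, 45, 80, 90, 144}) (h : 4 ∣ Nat.card G) : cnt G 4 = 90 := by
  have := frob_list h [1, 2, 4] (by decide)
  simp only [List.map_cons, List.map_nil, List.sum_cons, List.sum_nil, cnt_one, six_two hV] at this
  have := six_vals hV 4; omega

theorem six_not_sixteen (hV : Vals G {1, 45, 80, 90, 144}) : ¬ 2 ^ 4 ∣ Nat.card G := fun h => by
  have := frob_list h [1, 2, 4, 8, 16] (by decide)
  simp only [List.map_cons, List.map_nil, List.sum_cons, List.sum_nil, cnt_one, six_two hV,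
    six_four hV ((by norm_num : 4 ∣ 2 ^ 4).trans h)] at this
  have c8' : cnt G 8 = 0 ∨ cnt G 8 = 80 ∨ cnt G 8 = 144 := by
    have := six_vals hV 8; have := totient_eq_dvd (G := G) (show Nat.totient 8 = 4 by decide); omega
  have c16' : cnt G 16 = 0 ∨ cnt G 16 = 80 ∨ cnt G 16 = 144 := by
    have := six_vals hV 16; have := totient_eq_dvd (G := G) (show Nat.totient 16 = 8 by decide); omega
  have : cnt G 16 ≠ 0 → cnt G 8 ≠ 0 := fun h => cnt_of_dvd h (by norm_num)
  clear h
  omega

theorem six_dvd (hV : Vals G {1, 45, 80, 90, 144}) : Nat.card G ∣ 3240 := by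
  refine card_dvd_list [(2, 3), (3, 4), (5, 1)] (by decide) (fun p hp hd => ?_) ?_
  · obtain ⟨v, hv', h1, h2⟩ := prime_cases hV hp hd
    simp only [Set.mem_insert_iff, Set.mem_singleton_iff] at hv'
    have hle := Nat.le_of_dvd (by omega) h2
    have hpr : p = 2 ∨ p = 3 ∨ p = 5 ∨ p = 7 := by
      rcases hv' with rfl | rfl | rfl | rfl | rfl <;> interval_cases p <;> norm_num at *
    rcases hpr with rfl | rfl | rfl | rfl
    · simp
    · simp
    · simp
    · exact absurd hd (six_not_seven hV)
  · refine List.forall_mem_cons.2 ⟨six_not_sixteen hV, List.forall_mem_cons.2 ⟨fun h => ?_,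
      List.forall_mem_singleton.2 (six_not_twentyfive hV)⟩⟩
    have h' : 3 ^ 5 ∣ Nat.card G := h
    have := frob_list h' [1, 3, 9, 27, 81, 243] (by decide)
    simp only [List.map_cons, List.map_nil, List.sum_cons, List.sum_nil, cnt_one,
      six_three hV ((dvd_pow_self 3 (by norm_num)).trans h'), six_z_nine hV (show 9 ∣ 27 by norm_num),
      six_z_nine hV (show 9 ∣ 81 by norm_num), six_z_nine hV (show 9 ∣ 243 by norm_num), six_nine hV] at this
    omega

theorem six_with_five (hV : Vals G {1, 45, 80, 90, 144}) (h5 : 5 ∣ Nat.card G) :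
    Nat.card G = 360 ∧ IsSimpleGroup G := by
  haveI : Fact (Nat.Prime 5) := ⟨by norm_num⟩
  have hc5 := six_five hV h5
  have h36 : 36 ∣ Nat.card G := by
    have h1 := cnt_eq_sylow (G := G) (six_not_twentyfive hV) h5
    rw [hc5] at h1
    have h2 := sylow_dvd (G := G) (p := 5)
    rwa [show Nat.card (Sylow 5 G) = 36 by omega] at h2
  have h3 : 3 ∣ Nat.card G := (by norm_num : 3 ∣ 36).trans h36
  have hc3 := six_three hV h3
  have hc4 := six_four hV ((by norm_num : 4 ∣ 36).trans h36)
  have c15 : cnt G 15 = 0 := by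
    by_contra h
    have := frob_list (dvd_card_of_cnt h) [1, 3, 5, 15] (by decide)
    simp only [List.map_cons, List.map_nil, List.sum_cons, List.sum_nil, cnt_one, hc3, hc5] at this
    have := six_vals hV 15; have := totient_eq_dvd (G := G) (show Nat.totient 15 = 8 by decide)
    clear h5 h36 h3
    omega
  have c10 : cnt G 10 = 0 := by
    by_contra h
    have := frob_list (dvd_card_of_cnt h) [1, 2, 5, 10] (by decide)
    simp only [List.map_cons, List.map_nil, List.sum_cons, List.sum_nil, cnt_one, six_two hV, hc5] at this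
    have := dvd_cnt_of_no_product (G := G) (m := 10) Nat.prime_three h3 (by decide) (cnt_zero_of_dvd c15 (by norm_num))
    have := six_vals hV 10; have := totient_eq_dvd (G := G) (show Nat.totient 10 = 4 by decide)
    clear h5 h36 h3
    omega
  have z10 : ∀ m, 10 ∣ m → cnt G m = 0 := fun m hm => cnt_zero_of_dvd c10 hm
  have z15 : ∀ m, 15 ∣ m → cnt G m = 0 := fun m hm => cnt_zero_of_dvd c15 hm
  have c6 : cnt G 6 = 0 := by
    have := frob_list ((by norm_num : 12 ∣ 36).trans h36) [1, 2, 3, 4, 6, 12] (by decide)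
    simp only [List.map_cons, List.map_nil, List.sum_cons, List.sum_nil, cnt_one, six_two hV, hc3, hc4] at this
    have := frob_list ((by norm_num : 6 ∣ 36).trans h36) [1, 2, 3, 6] (by decide)
    simp only [List.map_cons, List.map_nil, List.sum_cons, List.sum_nil, cnt_one, six_two hV, hc3] at this
    have := dvd_cnt_of_no_product (G := G) (m := 6) (q := 5) (by norm_num) h5 (by decide) (z10 _ (by norm_num))
    have := dvd_cnt_of_no_product (G := G) (m := 12) (q := 5) (by norm_num) h5 (by decide) (z10 _ (by norm_num))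
    have := six_vals hV 12; have := totient_eq_dvd (G := G) (show Nat.totient 12 = 4 by decide)
    have := six_vals hV 6
    clear h5 h36 h3
    omega
  have c8 : cnt G 8 = 0 ∨ cnt G 8 = 80 := by
    have := dvd_cnt_of_no_product (G := G) (m := 8) (q := 5) (by norm_num) h5 (by decide) (z10 _ (by norm_num))
    have := six_vals hV 8; have := totient_eq_dvd (G := G) (show Nat.totient 8 = 4 by decide)
    clear h5 h36 h3
    omega
  have hsum : Nat.card G = cnt G 1 + cnt G 2 + cnt G 3 + cnt G 4 + cnt G 5 + cnt G 8 := by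
    rw [card_eq_sum (by norm_num) (six_dvd hV),
      ← Finset.sum_subset (s₁ := ({1, 2, 3, 4, 5, 8} : Finset ℕ)) (by decide +kernel)]
    · simp [add_assoc]
    · intro m hm hm'
      have key : ∀ m ∈ Nat.divisors 3240, m ∉ ({1, 2, 3, 4, 5, 8} : Finset ℕ) → 9 ∣ m ∨ 6 ∣ m ∨ 10 ∣ m ∨ 15 ∣ m := by
        decide +kernel
      rcases key m hm hm' with h | h | h | h
      exacts [six_z_nine hV h, cnt_zero_of_dvd c6 h, z10 m h, z15 m h]
  have hcard : Nat.card G = 360 := by
    rw [cnt_one, six_two hV, hc3, hc4, hc5] at hsum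
    omega
  exact ⟨hcard, simple_six hcard h5 hc3 hc5 z10 z15⟩

theorem six_without_five (hV : Vals G {1, 45, 80, 90, 144}) (h5 : ¬ 5 ∣ Nat.card G) : False := by
  have hN' : Nat.card G ∣ 648 :=
    ((Nat.Prime.coprime_iff_not_dvd (by norm_num : Nat.Prime 5)).2 h5).symm.dvd_of_dvd_mul_left
      (by simpa using six_dvd hV)
  have c8 : cnt G 8 = 0 := by
    haveI : Fact (Nat.Prime 2) := ⟨Nat.prime_two⟩
    by_contra hne
    have hr : cnt G 2 * 4 ≤ cnt G 8 := by
      simpa using cnt_roots (G := G) (p := 2) (k := 2) hne (six_not_sixteen hV)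
    rw [six_two hV] at hr
    have := six_vals hV 8
    clear hN' h5
    omega
  have hkey : ∀ m ∈ Nat.divisors 648, m ∈ ({1, 2, 3, 4, 6, 12} : Finset ℕ) ∨ 9 ∣ m ∨ 8 ∣ m := by decide +kernel
  have hzero : ∀ m ∈ Nat.divisors 648, m ∉ ({1, 2, 3, 4, 6, 12} : Finset ℕ) → cnt G m = 0 := fun m hm hm' => by
    rcases hkey m hm with h | h | h
    exacts [absurd h hm', six_z_nine hV h, cnt_zero_of_dvd c8 h]
  have hsum : Nat.card G = cnt G 1 + cnt G 2 + cnt G 3 + cnt G 4 + cnt G 6 + cnt G 12 := by
    rw [card_eq_sum (by norm_num) hN',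
      ← Finset.sum_subset (s₁ := ({1, 2, 3, 4, 6, 12} : Finset ℕ)) (by decide +kernel) hzero]
    simp [add_assoc]
  rw [cnt_one, six_two hV] at hsum
  have hsur : ∀ v, v ∈ ({1, 45, 80, 90, 144} : Set ℕ) → 45 < v →
      cnt G 3 = v ∨ cnt G 4 = v ∨ cnt G 6 = v ∨ cnt G 12 = v := fun v hv h45 => by
    obtain ⟨m, hm⟩ := hV.surj v hv
    have hne : cnt G m ≠ 0 := by rw [hm]; exact fun e => absurd (e ▸ h45) (by norm_num)
    have hmd : m ∈ Nat.divisors 648 := Nat.mem_divisors.2 ⟨(dvd_card_of_cnt hne).trans hN', by norm_num⟩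
    have hin : m ∈ ({1, 2, 3, 4, 6, 12} : Finset ℕ) := by_contra fun h => hne (hzero m hmd h)
    simp only [Finset.mem_insert, Finset.mem_singleton] at hin
    rcases hin with rfl | rfl | rfl | rfl | rfl | rfl
    · rw [cnt_one] at hm; exact absurd (hm ▸ h45) (by norm_num)
    · rw [six_two hV] at hm; exact absurd (hm ▸ h45) (by norm_num)
    · exact Or.inl hm
    · exact Or.inr (Or.inl hm)
    · exact Or.inr (Or.inr (Or.inl hm))
    · exact Or.inr (Or.inr (Or.inr hm))
  have s90 := hsur 90 (by simp) (by norm_num)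
  have s144 := hsur 144 (by simp) (by norm_num)
  have e3 : cnt G 3 = 0 ∨ cnt G 3 = 80 := (em (cnt G 3 = 0)).imp id fun h => six_three hV (dvd_card_of_cnt h)
  have e4 : cnt G 4 = 0 ∨ cnt G 4 = 90 := (em (cnt G 4 = 0)).imp id fun h => six_four hV (dvd_card_of_cnt h)
  have e12 : cnt G 12 = 0 ∨ cnt G 12 = 80 ∨ cnt G 12 = 144 := by
    have := six_vals hV 12; have := totient_eq_dvd (G := G) (show Nat.totient 12 = 4 by decide)
    clear h5 hN' hsum s90 s144
    omega
  have e6 : cnt G 6 = 0 ∨ cnt G 6 = 90 ∨ cnt G 6 = 144 := by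
    by_cases h : cnt G 6 = 0
    · exact Or.inl h
    have := frob_list (dvd_card_of_cnt h) [1, 2, 3, 6] (by decide)
    simp only [List.map_cons, List.map_nil, List.sum_cons, List.sum_nil, cnt_one, six_two hV,
      six_three hV ((by norm_num : 3 ∣ 6).trans (dvd_card_of_cnt h))] at this
    have := six_vals hV 6
    clear h5 hN' hsum s90 s144 e3 e4 e12
    omega
  have hlo := small_arith (Nat.card G) (cnt G 3) (cnt G 4) (cnt G 6) (cnt G 12) (by rw [hsum]) e3 e4 e6 e12
    (fun h => cnt_of_dvd h (by norm_num)) (fun h => cnt_of_dvd h (by norm_num))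
    (fun h => cnt_of_dvd h (by norm_num)) s90 s144
  have key : ∀ n ∈ Nat.divisors 648, ¬ (360 ≤ n ∧ n ≤ 504) := by decide +kernel
  exact key _ (Nat.mem_divisors.2 ⟨hN', by norm_num⟩) hlo

theorem iso_six (hV : Vals G {1, 45, 80, 90, 144}) : Nonempty (G ≃* ↥(alternatingGroup (Fin 6))) := by
  by_cases h5 : 5 ∣ Nat.card G
  · obtain ⟨hcard, hs⟩ := six_with_five hV h5
    haveI := hs
    exact Cfsg.Agent.S0497.result hcard
  · exact (six_without_five hV h5).elim

end Cfsg.Lib.NseAlt
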