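import Cfsg.Agent.Recognition.NseAlt.Count

/-!
# Divisor sums and conjugation orbits
-/

set_option autoImplicit false

namespace Cfsg.Lib.NseAlt

open Cfsg.Agent.S3996

variable {G : Type*} [Group G] [Finite G]

theorem frob_list {n : ℕ} (hn : n ∣ Nat.card G) (L : List ℕ) (hL : L.Nodup ∧ L.toFinset = n.divisors) :
    n ∣ (L.map (cnt G)).sum := by
  rw [← List.sum_toFinset _ hL.1, hL.2]
  exact frobenius_sum (fun e => Nat.card_pos.ne' (Nat.eq_zero_of_zero_dvd (e ▸ hn))) dvd_rfl hn

theorem card_eq_list {N : ℕ} (hN : N ≠ 0) (h : Nat.card G ∣ N) (L : List ℕ)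
    (hL : L.Nodup ∧ L.toFinset = N.divisors) : Nat.card G = (L.map (cnt G)).sum := by
  rw [← List.sum_toFinset _ hL.1, hL.2, card_eq_sum hN h]

theorem card_dvd_list {N : ℕ} (L : List (ℕ × ℕ)) (hN : ∀ e ∈ L, e.1 ^ e.2 ∣ N)
    (hp : ∀ p : ℕ, p.Prime → p ∣ Nat.card G → ∃ e ∈ L, e.1 = p)
    (hb : ∀ e ∈ L, ¬ e.1 ^ (e.2 + 1) ∣ Nat.card G) : Nat.card G ∣ N := by
  rw [Nat.dvd_iff_prime_pow_dvd_dvd]
  intro p k hpp hk
  rcases Nat.eq_zero_or_pos k with rfl | hk0
  · simp
  obtain ⟨e, he, rfl⟩ := hp p hpp ((dvd_pow_self p hk0.ne').trans hk)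
  refine (pow_dvd_pow _ ?_).trans (hN e he)
  by_contra hlt
  exact hb e he ((pow_dvd_pow _ (by omega)).trans hk)

theorem card_lt_notMem {α β : Type*} [Finite β] (f : α → β) (h : Function.Injective f) {b : β}
    (hb : b ∉ Set.range f) : Nat.card α < Nat.card β := by
  haveI := Finite.of_injective f h
  haveI := Fintype.ofFinite α
  haveI := Fintype.ofFinite β
  rw [Nat.card_eq_fintype_card, Nat.card_eq_fintype_card]
  exact Fintype.card_lt_of_injective_of_notMem f h hb

theorem cnt_le_card (m : ℕ) : cnt G m ≤ Nat.card G :=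
  Nat.card_le_card_of_injective _ Subtype.val_injective

/-- An element of order `m` lies in a normal subgroup of index prime to `m`. -/
theorem cnt_le_normal (N : Subgroup G) [N.Normal] {m : ℕ} (hm : 1 < m) (hcop : Nat.Coprime m N.index) :
    cnt G m < Nat.card N := by
  have hmem : ∀ g : G, orderOf g = m → g ∈ N := fun g hg => by
    rw [← QuotientGroup.eq_one_iff, ← orderOf_eq_one_iff]
    refine Nat.eq_one_of_dvd_coprimes hcop ?_ ?_
    · rw [← hg]; exact orderOf_map_dvd (QuotientGroup.mk' N) g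
    · exact orderOf_dvd_natCard _
  let f : {g : G // orderOf g = m} → N := fun g => ⟨g.1, hmem g.1 g.2⟩
  refine card_lt_notMem f (b := 1)
    (fun a b h => Subtype.ext (congrArg (fun w : N => (w : G)) h)) ?_
  rintro ⟨⟨g, hg⟩, h⟩
  have : g = 1 := congrArg (fun w : N => (w : G)) h
  rw [this, orderOf_one] at hg
  omega

/-- Commuting elements of coprime orders give an element of the product order. -/
theorem cnt_mul_ne_zero {x t : G} (h : Commute x t) (hcop : (orderOf x).Coprime (orderOf t)) :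
    cnt G (orderOf x * orderOf t) ≠ 0 :=
  (cnt_pos (g := x * t) (h.orderOf_mul_eq_mul_orderOf_of_coprime hcop)).ne'

/-- An element of prime order that commutes with no element of order `orderOf t` moves `t` in a normal subgroup
through `q` elements of its order. -/
theorem orbit_le (N : Subgroup G) [N.Normal] {x t : G} {q : ℕ} (hq : q.Prime) (hx : orderOf x = q) (ht : t ∈ N)
    (hc : ¬ Commute x t) : q ≤ Nat.card {y : N // orderOf (y : G) = orderOf t} := by
  have hconj : ∀ i : ℕ, orderOf (MulAut.conj (x ^ i) t) = orderOf t := fun i => by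
    rw [← MulEquiv.coe_toMonoidHom, orderOf_injective _ (MulAut.conj (x ^ i)).injective]
  let f : Fin q → {y : N // orderOf (y : G) = orderOf t} := fun i =>
    ⟨⟨MulAut.conj (x ^ i.val) t, by
      rw [MulAut.conj_apply]; exact Subgroup.Normal.conj_mem inferInstance t ht _⟩, hconj i.val⟩
  have key : ∀ i j : ℕ, i < j → j < q → MulAut.conj (x ^ i) t ≠ MulAut.conj (x ^ j) t := by
    intro i j hij hj e
    obtain ⟨d, rfl⟩ : ∃ d, j = i + d := ⟨j - i, by omega⟩
    rw [pow_add, map_mul, MulAut.mul_apply] at e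
    have e' := (MulAut.conj (x ^ i)).injective e
    rw [MulAut.conj_apply] at e'
    have hcd : Commute (x ^ d) t := by
      show x ^ d * t = t * x ^ d
      nth_rw 2 [e']
      group
    have hd : Nat.Coprime (orderOf x) d := by
      rw [hx]; exact hq.coprime_iff_not_dvd.2 (Nat.not_dvd_of_pos_of_lt (by omega) (by omega))
    obtain ⟨m, hm⟩ := exists_pow_eq_self_of_coprime hd.symm
    exact hc (hm ▸ hcd.pow_left m)
  have hf : Function.Injective f := fun i j e => by
    have e' : MulAut.conj (x ^ i.val) t = MulAut.conj (x ^ j.val) t := congrArg (fun w => (w.1 : G)) e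
    rcases Nat.lt_trichotomy i.val j.val with h | h | h
    · exact absurd e' (key _ _ h j.isLt)
    · exact Fin.ext h
    · exact absurd e'.symm (key _ _ h i.isLt)
  simpa using Nat.card_le_card_of_injective f hf

theorem orbit_lt (N : Subgroup G) [N.Normal] {x t : G} {q : ℕ} (hq : q.Prime) (hx : orderOf x = q) (ht : t ∈ N)
    (hne : t ≠ 1) (hc : ¬ Commute x t) : q < Nat.card N := by
  refine (orbit_le N hq hx ht hc).trans_lt (card_lt_notMem Subtype.val (b := (1 : N))
    Subtype.val_injective ?_)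
  rintro ⟨⟨y, hy⟩, rfl⟩
  rw [Subgroup.coe_one, orderOf_one, eq_comm, orderOf_eq_one_iff] at hy
  exact hne hy

end Cfsg.Lib.NseAlt
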