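import Mathlib

/-!
# Numbers of elements of each order in the alternating groups of degree 4, 5 and 6
-/

set_option autoImplicit false

set_option maxHeartbeats 4000000

namespace Cfsg.Lib.NseAlt

open Equiv

/-- The element is of order `m`, said by powers. -/
def hasOrd {G : Type*} [Monoid G] [DecidableEq G] (x : G) (m : ℕ) : Bool :=
  decide (x ^ m = 1) && (List.range m).all fun d => decide (d = 0) || decide (x ^ d ≠ 1)

theorem hasOrd_iff {G : Type*} [Monoid G] [DecidableEq G] (x : G) {m : ℕ} (hm : 0 < m) :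
    hasOrd x m = true ↔ orderOf x = m := by
  rw [hasOrd, orderOf_eq_iff hm]
  simp only [Bool.and_eq_true, decide_eq_true_eq, List.all_eq_true, Bool.or_eq_true, List.mem_range]
  exact and_congr_right fun _ => ⟨fun h d hd h0 => (h d hd).resolve_left h0.ne', fun h d hd =>
    (Nat.eq_zero_or_pos d).imp id fun h0 => h d hd h0⟩

theorem image_eq {G : Type*} [Group G] [Fintype G] [DecidableEq G] (L : List (ℕ × ℕ)) (hpos : ∀ e ∈ L, 0 < e.1 ∧ 0 < e.2)
    (hall : ∀ x : G, ∃ e ∈ L, hasOrd x e.1 = true)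
    (hcnt : ∀ e ∈ L, (Finset.univ.filter fun x : G => hasOrd x e.1 = true).card = e.2) :
    (fun m : ℕ => Nat.card {g : G // orderOf g = m}) '' Set.range (orderOf : G → ℕ) = {v | ∃ e ∈ L, e.2 = v} := by
  classical
  have key : ∀ e ∈ L, Nat.card {g : G // orderOf g = e.1} = e.2 := fun e he => by
    rw [Nat.card_eq_fintype_card, Fintype.card_subtype, ← hcnt e he]
    congr 1
    ext x
    simp [hasOrd_iff x (hpos e he).1]
  ext v
  constructor
  · rintro ⟨_, ⟨x, rfl⟩, rfl⟩
    obtain ⟨e, he, hx⟩ := hall x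
    rw [hasOrd_iff x (hpos e he).1] at hx
    exact ⟨e, he, by rw [hx]; exact (key e he).symm⟩
  · rintro ⟨e, he, rfl⟩
    have h0 := (hpos e he).2
    rw [← key e he] at h0
    obtain ⟨⟨g, hg⟩⟩ := (Nat.card_pos_iff.1 h0).1
    exact ⟨e.1, ⟨g, hg⟩, key e he⟩

theorem alt_four : (fun m : ℕ => Nat.card {g : ↥(alternatingGroup (Fin 4)) // orderOf g = m}) ''
    Set.range (orderOf : ↥(alternatingGroup (Fin 4)) → ℕ) = {1, 3, 8} := by
  rw [image_eq [(1, 1), (2, 3), (3, 8)] (by decide) (by decide +kernel) (by decide +kernel)]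
  ext v; simp [eq_comm]

theorem alt_five : (fun m : ℕ => Nat.card {g : ↥(alternatingGroup (Fin 5)) // orderOf g = m}) ''
    Set.range (orderOf : ↥(alternatingGroup (Fin 5)) → ℕ) = {1, 15, 20, 24} := by
  rw [image_eq [(1, 1), (2, 15), (3, 20), (5, 24)] (by decide) (by decide +kernel) (by decide +kernel)]
  ext v; simp [eq_comm]

theorem alt_six : (fun m : ℕ => Nat.card {g : ↥(alternatingGroup (Fin 6)) // orderOf g = m}) ''
    Set.range (orderOf : ↥(alternatingGroup (Fin 6)) → ℕ) = {1, 45, 80, 90, 144} := by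
  rw [image_eq [(1, 1), (2, 45), (3, 80), (4, 90), (5, 144)] (by decide) (by decide +kernel) (by decide +kernel)]
  ext v; simp [eq_comm]

end Cfsg.Lib.NseAlt
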